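import Mathlib
import Groth.Agent.CAlgH.KrullAkizukiLength

/-!
# Lengths of `M / xM` for torsion-free modules of finite rank over a one-dimensional domain
-/

universe u
open nonZeroDivisors

namespace Groth.Agent.RamH2

variable {A : Type u} [CommRing A]

/-- multiplication by `x` modulo -/
abbrev sm (x : A) (M : Type u) [AddCommGroup M] [Module A M] : Submodule A M :=
  Ideal.span ({x} : Set A) • (⊤ : Submodule A M)

theorem mem_sm {x : A} {M : Type u} [AddCommGroup M] [Module A M] {z : M} :
    z ∈ sm x M ↔ ∃ y : M, z = x • y := by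
  rw [sm, Submodule.ideal_span_singleton_smul, Submodule.mem_smul_pointwise_iff_exists]
  exact ⟨fun ⟨y, _, hy⟩ => ⟨y, hy.symm⟩, fun ⟨y, hy⟩ => ⟨y, trivial, hy.symm⟩⟩

theorem length_quot_pi (d : ℕ) (x : A) :
    Module.length A ((Fin d → A) ⧸ sm x (Fin d → A)) = (d : ℕ∞) * Ring.ord A x := by
  let g : (Fin d → A) →ₗ[A] (Fin d → A ⧸ Ideal.span {x}) :=
    LinearMap.pi fun i => (Ideal.span {x}).mkQ ∘ₗ LinearMap.proj i
  have hg : Function.Surjective g := fun y =>
    ⟨fun i => (Submodule.Quotient.mk_surjective _ (y i)).choose,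
      funext fun i => (Submodule.Quotient.mk_surjective _ (y i)).choose_spec⟩
  have hker : LinearMap.ker g = sm x (Fin d → A) := by
    ext z
    rw [mem_sm, LinearMap.mem_ker]
    constructor
    · intro hz
      have : ∀ i, ∃ c, c * x = z i := fun i =>
        Ideal.mem_span_singleton'.1 ((Submodule.Quotient.mk_eq_zero _).1 (congrFun hz i))
      choose c hc using this
      exact ⟨c, funext fun i => (hc i).symm.trans (mul_comm _ _)⟩
    · rintro ⟨y, rfl⟩
      exact funext fun i => (Submodule.Quotient.mk_eq_zero _).2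
        (Ideal.mul_mem_right _ _ (Ideal.mem_span_singleton_self x))
  rw [← hker, (g.quotKerEquivOfSurjective hg).length_eq, Module.length_pi_of_fintype]
  simp [Ring.ord]

/-- A torsion-free finite module containing a free submodule with torsion cokernel. -/
theorem length_quot_eq [IsDomain A] [IsNoetherianRing A] [Ring.KrullDimLE 1 A] {x : A}
    {M : Type u} [AddCommGroup M] [Module A M] [Module.Finite A M]
    (hM : Function.Injective fun m : M => x • m)
    {d : ℕ} (ψ : (Fin d → A) →ₗ[A] M) (hψ : Function.Injective ψ)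
    (htor : ∀ m : M, ∃ r : A, r ≠ 0 ∧ r • m ∈ LinearMap.range ψ) :
    Module.length A (M ⧸ sm x M) = (d : ℕ∞) * Ring.ord A x := by
  classical
  let F := LinearMap.range ψ
  let P : Submodule A M := (sm x (Fin d → A)).map ψ
  have hP : ∀ {z : M}, z ∈ P ↔ ∃ y, z = x • ψ y := by
    intro z
    simp only [P, Submodule.mem_map, mem_sm]
    exact ⟨fun ⟨_, ⟨y, rfl⟩, e⟩ => ⟨y, by rw [← e, map_smul]⟩,
      fun ⟨y, e⟩ => ⟨x • y, ⟨y, rfl⟩, by rw [e, map_smul]⟩⟩
  have hPF : P ≤ F := LinearMap.map_le_range
  have hPx : P ≤ sm x M := fun z hz => by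
    obtain ⟨y, rfl⟩ := hP.1 hz
    exact mem_sm.2 ⟨_, rfl⟩
  -- the cokernel of `ψ` has finite length
  have hcok : Module.length A (M ⧸ F) ≠ ⊤ := by
    obtain ⟨s, hs⟩ := Module.Finite.fg_top (R := A) (M := M)
    choose r hr hrm using htor
    let c : A := ∏ m ∈ s, r m
    have hc : c ≠ 0 := Finset.prod_ne_zero_iff.2 fun m _ => hr m
    have hcm : ∀ m : M, c • m ∈ F := by
      intro m
      have hm : m ∈ Submodule.span A (s : Set M) := hs ▸ Submodule.mem_top
      induction hm using Submodule.span_induction with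
      | mem y hy =>
        obtain ⟨e, he⟩ := Finset.dvd_prod_of_mem r hy
        simp only [c]
        rw [he, mul_comm, mul_smul]
        exact F.smul_mem _ (hrm y)
      | zero => rw [smul_zero]; exact F.zero_mem
      | add a b _ _ ha hb => rw [smul_add]; exact F.add_mem ha hb
      | smul t a _ ha => rw [smul_comm]; exact F.smul_mem _ ha
    obtain ⟨n, q, hq⟩ := Module.Finite.exists_fin' A (M ⧸ F)
    have hle : sm c (Fin n → A) ≤ LinearMap.ker q := by
      intro z hz
      obtain ⟨y, rfl⟩ := mem_sm.1 hz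
      obtain ⟨m, hm⟩ := Submodule.Quotient.mk_surjective F (q y)
      rw [LinearMap.mem_ker, map_smul, ← hm, ← Submodule.Quotient.mk_smul,
        Submodule.Quotient.mk_eq_zero]
      exact hcm m
    refine ne_top_of_le_ne_top ?_ (Module.length_le_of_surjective ((sm c (Fin n → A)).liftQ q hle) ?_)
    · rw [length_quot_pi]
      exact WithTop.mul_ne_top (ENat.coe_ne_top n)
        (Ring.ord_ne_top (mem_nonZeroDivisors_of_ne_zero hc))
    · intro y
      obtain ⟨z, rfl⟩ := hq y
      exact ⟨Submodule.Quotient.mk z, rfl⟩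
  -- `0 → A^d/x → M/xF → M/F → 0`
  let i : ((Fin d → A) ⧸ sm x (Fin d → A)) →ₗ[A] M ⧸ P :=
    Submodule.mapQ _ _ ψ (Submodule.le_comap_map _ _)
  have hi : Function.Injective i := by
    rw [injective_iff_map_eq_zero]
    intro z hz
    obtain ⟨z, rfl⟩ := Submodule.Quotient.mk_surjective _ z
    simp only [i, Submodule.mapQ_apply, Submodule.Quotient.mk_eq_zero] at hz
    obtain ⟨y, hy⟩ := hP.1 hz
    rw [← map_smul] at hy
    rw [Submodule.Quotient.mk_eq_zero]
    exact mem_sm.2 ⟨y, hψ hy⟩
  have h1 := Module.length_eq_add_of_exact i (Submodule.factor hPF) hi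
    (Submodule.factor_surjective hPF) (by
      intro z
      obtain ⟨z, rfl⟩ := Submodule.Quotient.mk_surjective _ z
      simp only [Submodule.factor_mk, Set.mem_range]
      constructor
      · intro hz
        obtain ⟨y, rfl⟩ := (Submodule.Quotient.mk_eq_zero F).1 hz
        exact ⟨Submodule.Quotient.mk y, rfl⟩
      · rintro ⟨w, hw⟩
        obtain ⟨w, rfl⟩ := Submodule.Quotient.mk_surjective _ w
        simp only [i, Submodule.mapQ_apply] at hw
        have := hPF ((Submodule.Quotient.eq P).1 hw)
        have hw' : ψ w ∈ F := LinearMap.mem_range_self ψ w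
        refine (Submodule.Quotient.mk_eq_zero F).2 ?_
        simpa using F.sub_mem hw' this)
  -- `0 → M/F → M/xF → M/xM → 0`
  let j : (M ⧸ F) →ₗ[A] M ⧸ P := Submodule.mapQ _ _ (LinearMap.lsmul A M x) (by
    rintro _ ⟨y, rfl⟩
    exact hP.2 ⟨y, rfl⟩)
  have hj : Function.Injective j := by
    rw [injective_iff_map_eq_zero]
    intro z hz
    obtain ⟨z, rfl⟩ := Submodule.Quotient.mk_surjective _ z
    simp only [j, Submodule.mapQ_apply, Submodule.Quotient.mk_eq_zero] at hz
    obtain ⟨y, hy⟩ := hP.1 hz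
    rw [Submodule.Quotient.mk_eq_zero]
    exact ⟨y, hM (show x • ψ y = x • z from hy.symm)⟩
  have h2 := Module.length_eq_add_of_exact j (Submodule.factor hPx) hj
    (Submodule.factor_surjective hPx) (by
      intro z
      obtain ⟨z, rfl⟩ := Submodule.Quotient.mk_surjective _ z
      simp only [Submodule.factor_mk, Set.mem_range]
      constructor
      · intro hz
        obtain ⟨y, rfl⟩ := mem_sm.1 ((Submodule.Quotient.mk_eq_zero _).1 hz)
        exact ⟨Submodule.Quotient.mk y, rfl⟩
      · rintro ⟨w, hw⟩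
        obtain ⟨w, rfl⟩ := Submodule.Quotient.mk_surjective _ w
        simp only [j, Submodule.mapQ_apply] at hw
        have := hPx ((Submodule.Quotient.eq P).1 hw)
        have hw' : x • w ∈ sm x M := mem_sm.2 ⟨w, rfl⟩
        refine (Submodule.Quotient.mk_eq_zero _).2 ?_
        simpa using (sm x M).sub_mem hw' this)
  rw [h2, length_quot_pi, add_comm (Module.length A (M ⧸ F))] at h1
  exact WithTop.add_right_cancel hcok h1

/-- The length of `M/xM` for a torsion-free module of rank at most `r`, not nec. finite. -/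
theorem length_quot_le [IsDomain A] [IsNoetherianRing A] [Ring.KrullDimLE 1 A] {K : Type u} [Field K]
    [Algebra A K] [IsFractionRing A K] {r : ℕ} {x : A} (hx : x ≠ 0)
    (M : Type u) [AddCommGroup M] [Module A M] (φ : M →ₗ[A] (Fin r → K)) (hφ : Function.Injective φ) :
    Module.length A (M ⧸ sm x M) ≤ (r : ℕ∞) * Ring.ord A x := by
  have hB : (r : ℕ∞) * Ring.ord A x ≠ ⊤ :=
    WithTop.mul_ne_top (ENat.coe_ne_top r) (Ring.ord_ne_top (mem_nonZeroDivisors_of_ne_zero hx))
  refine CAlgH.length_le_of_forall_fg hB fun Nb hNb => ?_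
  obtain ⟨n, g, hg⟩ := Submodule.fg_iff_exists_fin_generating_family.mp hNb
  choose gl hgl using fun i => Submodule.Quotient.mk_surjective _ (g i)
  let N0 : Submodule A M := Submodule.span A (Set.range gl)
  have : Module.Finite A N0 := Module.Finite.iff_fg.mpr (Submodule.fg_span (Set.finite_range gl))
  refine le_trans ?_ (CAlgH.length_quot_fg hx r N0 (φ ∘ₗ N0.subtype) (hφ.comp N0.injective_subtype))
  let q : (N0 ⧸ sm x N0) →ₗ[A] (M ⧸ sm x M) :=
    Submodule.mapQ _ _ N0.subtype (by
      rw [← Submodule.map_le_iff_le_comap, Submodule.map_smul'']; exact Submodule.smul_mono le_rfl le_top)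
  have hNb' : Nb ≤ LinearMap.range q := by
    rw [← hg, Submodule.span_le]
    rintro _ ⟨i, rfl⟩
    exact ⟨Submodule.Quotient.mk ⟨gl i, Submodule.subset_span ⟨i, rfl⟩⟩, by simp [q, hgl]⟩
  exact (Module.length_le_of_injective (Submodule.inclusion hNb') (Submodule.inclusion_injective hNb')).trans
    (Module.length_le_of_surjective q.rangeRestrict q.surjective_rangeRestrict)

/-- If a torsion-free module attains the maximal length modulo `x` then it is finite. -/
theorem finite_of_length_quot_eq [IsDomain A] [IsNoetherianRing A] [IsLocalRing A] [Ring.KrullDimLE 1 A]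
    {x : A} (hx : x ∈ IsLocalRing.maximalIdeal A) (hx0 : x ≠ 0)
    {M : Type u} [AddCommGroup M] [Module A M] (hM : Function.Injective fun m : M => x • m)
    {d : ℕ} (ψ : (Fin d → A) →ₗ[A] M) (hψ : Function.Injective ψ)
    (htor : ∀ m : M, ∃ r : A, r ≠ 0 ∧ r • m ∈ LinearMap.range ψ)
    (hlen : Module.length A (M ⧸ sm x M) = (d : ℕ∞) * Ring.ord A x) :
    Module.Finite A M := by
  classical
  have hne : (d : ℕ∞) * Ring.ord A x ≠ ⊤ :=
    WithTop.mul_ne_top (ENat.coe_ne_top d) (Ring.ord_ne_top (mem_nonZeroDivisors_of_ne_zero hx0))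
  have hfl : IsFiniteLength A (M ⧸ sm x M) := Module.length_ne_top_iff.1 (hlen.trans_ne hne)
  haveI : IsNoetherian A (M ⧸ sm x M) :=
    (isFiniteLength_iff_isNoetherian_isArtinian.1 hfl).1
  obtain ⟨n, g, hg⟩ := Submodule.fg_iff_exists_fin_generating_family.mp
    (IsNoetherian.noetherian (⊤ : Submodule A (M ⧸ sm x M)))
  choose gl hgl using fun i => Submodule.Quotient.mk_surjective _ (g i)
  let N : Submodule A M := LinearMap.range ψ ⊔ Submodule.span A (Set.range gl)
  have hN : N.FG := Submodule.FG.sup (by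
    rw [← Submodule.map_top]; exact Module.Finite.fg_top.map ψ) (Submodule.fg_span (Set.finite_range gl))
  haveI : Module.Finite A N := Module.Finite.iff_fg.mpr hN
  let ψ' : (Fin d → A) →ₗ[A] N :=
    ψ.codRestrict N fun c => Submodule.mem_sup_left (LinearMap.mem_range_self ψ c)
  have hN' : Module.length A (N ⧸ sm x N) = (d : ℕ∞) * Ring.ord A x := by
    refine length_quot_eq ?_ ψ' (fun a b h => hψ (congrArg Subtype.val h)) fun m => ?_
    · exact fun a b h => Subtype.ext (hM (congrArg Subtype.val h))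
    · obtain ⟨r, hr, c, hc⟩ := htor m
      exact ⟨r, hr, c, Subtype.ext hc⟩
  let q : (N ⧸ sm x N) →ₗ[A] (M ⧸ sm x M) :=
    Submodule.mapQ _ _ N.subtype (by
      rw [← Submodule.map_le_iff_le_comap, Submodule.map_smul'']; exact Submodule.smul_mono le_rfl le_top)
  have hq : Function.Surjective q := by
    rw [← LinearMap.range_eq_top, ← top_le_iff, ← hg, Submodule.span_le]
    rintro _ ⟨i, rfl⟩
    exact ⟨Submodule.Quotient.mk ⟨gl i, Submodule.mem_sup_right (Submodule.subset_span ⟨i, rfl⟩)⟩,
      by simp [q, hgl]⟩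
  have hqi : Function.Injective q := by
    have h := Module.length_eq_add_of_exact (LinearMap.ker q).subtype q (Submodule.injective_subtype _)
      hq (LinearMap.exact_subtype_ker_map q)
    rw [hN', hlen] at h
    have h0 : Module.length A (LinearMap.ker q) = 0 := by
      exact (WithTop.add_right_cancel hne ((zero_add _).trans h)).symm
    rw [Module.length_eq_zero_iff, Submodule.subsingleton_iff_eq_bot] at h0
    exact LinearMap.ker_eq_bot.1 h0
  have step : ∀ c : M, x • c ∈ N → c ∈ N := by
    intro c hc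
    have h0 : q (Submodule.Quotient.mk ⟨x • c, hc⟩) = 0 := by
      simp only [q, Submodule.mapQ_apply, Submodule.Quotient.mk_eq_zero]
      exact mem_sm.2 ⟨c, rfl⟩
    rw [← map_zero q] at h0
    obtain ⟨y, hy⟩ := mem_sm.1 ((Submodule.Quotient.mk_eq_zero _).1 (hqi h0))
    have : x • c = x • (y : M) := congrArg Subtype.val hy
    exact hM this ▸ y.2
  have hall : ∀ m : M, m ∈ N := by
    intro m
    obtain ⟨r, hr, hrm⟩ := htor m
    obtain ⟨k, hk⟩ : ∃ k : ℕ, x ^ k ∈ Ideal.span ({r} : Set A) := by
      refine Ideal.mem_radical_iff.1 ?_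
      rw [Ideal.radical_eq_sInf, Submodule.mem_sInf]
      rintro p ⟨hp, hpp⟩
      have hp0 : p ≠ ⊥ := fun e => hr (by
        have := hp (Ideal.mem_span_singleton_self r)
        rwa [e, Ideal.mem_bot] at this)
      haveI := hpp
      rw [IsLocalRing.eq_maximalIdeal (I := p) (Ideal.IsPrime.isMaximal_of_ne_bot hpp hp0)]
      exact hx
    have hxk : x ^ k • m ∈ N := by
      obtain ⟨t, ht⟩ := Ideal.mem_span_singleton'.1 hk
      rw [← ht, mul_smul]
      exact N.smul_mem _ (Submodule.mem_sup_left hrm)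
    clear hk
    induction k with
    | zero => simpa using hxk
    | succ k ih =>
      rw [pow_succ', mul_smul] at hxk
      exact ih (step _ hxk)
  exact Module.Finite.of_surjective N.subtype fun m => ⟨⟨m, hall m⟩, rfl⟩

end Groth.Agent.RamH2
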